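import Mathlib

set_option autoImplicit false

namespace Groth.Agent.H5.SymPow

open TensorProduct

universe u v w

section lift

variable {R ι : Type u} [CommRing R] {M : Type v} [AddCommGroup M] [Module R M]
  {N : Type w} [AddCommGroup N] [Module R N]

/-- The additive map underlying the universal property of the symmetric power. -/
noncomputable def liftAddHom (f : MultilinearMap R (fun _ : ι => M) N)
    (hf : ∀ (e : Equiv.Perm ι) (v : ι → M), f (fun i => v (e i)) = f v) :
    Sym[R] ι M →+ N :=
  AddCon.lift (addConGen (SymmetricPower.Rel R ι M)) (PiTensorProduct.lift f).toAddMonoidHom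
    (AddCon.addConGen_le.mpr (by
      intro x y hxy
      cases hxy with
      | perm e v =>
        rw [AddCon.ker_rel]
        simp only [LinearMap.toAddMonoidHom_coe, PiTensorProduct.lift.tprod]
        exact (hf e v).symm))

lemma liftAddHom_mk (f : MultilinearMap R (fun _ : ι => M) N)
    (hf : ∀ (e : Equiv.Perm ι) (v : ι → M), f (fun i => v (e i)) = f v)
    (x : ⨂[R] (_ : ι), M) :
    liftAddHom f hf (SymmetricPower.mk R ι M x) = PiTensorProduct.lift f x := rfl

/-- Universal property of the symmetric power: a symmetric multilinear map factors through it. -/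
noncomputable def lift (f : MultilinearMap R (fun _ : ι => M) N)
    (hf : ∀ (e : Equiv.Perm ι) (v : ι → M), f (fun i => v (e i)) = f v) :
    Sym[R] ι M →ₗ[R] N where
  toFun := liftAddHom f hf
  map_add' := map_add _
  map_smul' r x := by
    obtain ⟨y, rfl⟩ := LinearMap.range_eq_top.mp (SymmetricPower.range_mk R ι M) x
    rw [← map_smul, liftAddHom_mk, liftAddHom_mk, map_smul, RingHom.id_apply]

@[simp] lemma lift_tprod (f : MultilinearMap R (fun _ : ι => M) N)
    (hf : ∀ (e : Equiv.Perm ι) (v : ι → M), f (fun i => v (e i)) = f v) (v : ι → M) :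
    lift f hf (SymmetricPower.tprod R v) = f v := by
  change liftAddHom f hf (SymmetricPower.mk R ι M (PiTensorProduct.tprod R v)) = f v
  rw [liftAddHom_mk, PiTensorProduct.lift.tprod]

theorem hom_ext {f g : Sym[R] ι M →ₗ[R] N}
    (h : ∀ v : ι → M, f (SymmetricPower.tprod R v) = g (SymmetricPower.tprod R v)) : f = g := by
  apply LinearMap.ext_on (SymmetricPower.span_tprod_eq_top R ι M)
  rintro _ ⟨v, rfl⟩
  exact h v

end lift

section map

variable {R ι : Type u} [CommRing R] {M : Type v} [AddCommGroup M] [Module R M]
  {N : Type w} [AddCommGroup N] [Module R N]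

/-- Functoriality of the symmetric power. -/
noncomputable def map (g : M →ₗ[R] N) : Sym[R] ι M →ₗ[R] Sym[R] ι N :=
  lift ((SymmetricPower.tprod R (ι := ι) (M := N)).compLinearMap (fun _ => g))
    (fun e v => by
      simp only [MultilinearMap.compLinearMap_apply]
      exact SymmetricPower.tprod_equiv e (fun i => g (v i)))

@[simp] lemma map_tprod (g : M →ₗ[R] N) (v : ι → M) :
    map g (SymmetricPower.tprod R v) = SymmetricPower.tprod R (fun i => g (v i)) := by
  rw [map, lift_tprod]
  rfl

lemma map_id : map (ι := ι) (LinearMap.id : M →ₗ[R] M) = LinearMap.id := by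
  apply hom_ext
  intro v
  simp

lemma map_comp {P : Type*} [AddCommGroup P] [Module R P] (g : N →ₗ[R] P) (f : M →ₗ[R] N) :
    map (ι := ι) (g ∘ₗ f) = map g ∘ₗ map f := by
  apply hom_ext
  intro v
  simp

lemma map_injective_of_leftInverse (i : M →ₗ[R] N) (p : N →ₗ[R] M) (h : p ∘ₗ i = LinearMap.id) :
    Function.Injective (map (ι := ι) i) := by
  have : map (ι := ι) p ∘ₗ map i = LinearMap.id := by rw [← map_comp, h, map_id]
  exact Function.LeftInverse.injective (g := map p) fun x => LinearMap.congr_fun this x

end map

section prodMap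

variable {R ι : Type u} [CommRing R] [Fintype ι] {M : Type v} [AddCommGroup M] [Module R M]
  {T : Type w} [CommRing T] [Algebra R T]

/-- The map `Sym[R] ι M → T`, `⨂ₛ v ↦ ∏ i, g (v i)` attached to a linear map into a commutative
algebra. -/
noncomputable def prodMap (g : M →ₗ[R] T) : Sym[R] ι M →ₗ[R] T :=
  lift ((MultilinearMap.mkPiAlgebra R ι T).compLinearMap (fun _ => g))
    (fun e v => by
      simp only [MultilinearMap.compLinearMap_apply, MultilinearMap.mkPiAlgebra_apply]
      exact Equiv.prod_comp e (fun i => g (v i)))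

@[simp] lemma prodMap_tprod (g : M →ₗ[R] T) (v : ι → M) :
    prodMap g (SymmetricPower.tprod R v) = ∏ i, g (v i) := by
  rw [prodMap, lift_tprod]
  simp

end prodMap

end Groth.Agent.H5.SymPow
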