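import Mathlib
import Groth.Agent.Lib.Helper5.SymPow.A

set_option autoImplicit false

namespace Groth.Agent.H5.SymPow

open TensorProduct

universe u v w

section torsion

variable {R ι : Type u} [CommRing R] {M : Type v} [AddCommGroup M] [Module R M]

/-- A scalar killing `M` kills `Sym[R] ι M` for nonempty `ι`. -/
theorem smul_eq_zero_of_forall [Nonempty ι] (s : R) (hs : ∀ m : M, s • m = 0)
    (z : Sym[R] ι M) : s • z = 0 := by
  classical
  have hz : z ∈ Submodule.span R (Set.range (SymmetricPower.tprod R (ι := ι) (M := M))) := by
    rw [SymmetricPower.span_tprod_eq_top]; trivial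
  refine Submodule.span_induction ?_ ?_ ?_ ?_ hz
  · rintro _ ⟨v, rfl⟩
    let i0 : ι := Classical.arbitrary ι
    have h1 : s • SymmetricPower.tprod R v =
        SymmetricPower.tprod R (Function.update v i0 (s • v i0)) := by
      rw [MultilinearMap.map_update_smul, Function.update_eq_self]
    rw [h1, hs]
    exact (SymmetricPower.tprod R (ι := ι) (M := M)).map_coord_zero i0
      (Function.update_self i0 0 v)
  · exact smul_zero s
  · intro x y _ _ hx hy
    rw [smul_add, hx, hy, add_zero]
  · intro a x _ hx
    rw [smul_comm, hx, smul_zero]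

end torsion

section span

variable {R ι : Type u} [CommRing R] [Finite ι] {M : Type v} [AddCommGroup M] [Module R M]

/-- If the family `b` spans `M`, then the pure tensors on `b` span `Sym[R] ι M`. -/
theorem span_tprod_comp {κ : Type*} (b : κ → M) (hb : Submodule.span R (Set.range b) = ⊤) :
    Submodule.span R (Set.range fun a : ι → κ => SymmetricPower.tprod R (fun i => b (a i))) = ⊤ := by
  classical
  haveI := Fintype.ofFinite ι
  rw [eq_top_iff, ← SymmetricPower.span_tprod_eq_top, Submodule.span_le]
  rintro _ ⟨v, rfl⟩
  have hv : ∀ i, ∃ c : κ →₀ R, v i = c.sum fun k r => r • b k := by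
    intro i
    have : v i ∈ Submodule.span R (Set.range b) := by rw [hb]; trivial
    obtain ⟨c, hc⟩ := Finsupp.mem_span_range_iff_exists_finsupp.mp this
    exact ⟨c, hc.symm⟩
  choose c hc using hv
  have hv' : v = fun i => ∑ k ∈ (c i).support, (c i k) • b k := by
    funext i
    rw [hc i]
    rfl
  rw [hv', MultilinearMap.map_sum_finset]
  refine Submodule.sum_mem _ fun r _ => ?_
  rw [MultilinearMap.map_smul_univ]
  exact Submodule.smul_mem _ _ (Submodule.subset_span ⟨r, rfl⟩)

end span

section count

variable {ι : Type*} [Fintype ι] {κ : Type*}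

/-- The multiset of values of `a : ι → κ`, as a finitely supported function. -/
noncomputable def count (a : ι → κ) : κ →₀ ℕ := ∑ i, Finsupp.single (a i) 1

lemma count_apply [DecidableEq κ] (a : ι → κ) (k : κ) :
    count a k = Fintype.card {i // a i = k} := by
  classical
  rw [count, Finsupp.finsetSum_apply, Fintype.card_subtype]
  simp only [Finsupp.single_apply]
  rw [Finset.sum_boole]
  simp

/-- Two maps with the same multiset of values differ by a permutation. -/
theorem exists_perm_of_count_eq (a a' : ι → κ) (h : count a = count a') :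
    ∃ e : Equiv.Perm ι, ∀ i, a (e i) = a' i := by
  classical
  have hk : ∀ k, Fintype.card {i // a' i = k} = Fintype.card {i // a i = k} := by
    intro k
    have h1 := count_apply a k
    have h2 := count_apply a' k
    rw [h] at h1
    exact h2.symm.trans h1
  let ek : ∀ k, {i // a' i = k} ≃ {i // a i = k} := fun k => Fintype.equivOfCardEq (hk k)
  let e : ι ≃ ι := (Equiv.sigmaFiberEquiv a').symm.trans
    ((Equiv.sigmaCongrRight ek).trans (Equiv.sigmaFiberEquiv a))
  refine ⟨e, fun i => ?_⟩
  exact ((ek (a' i)) ⟨i, rfl⟩).2

lemma prod_X_eq_monomial {C : Type*} [CommSemiring C] (a : ι → κ) :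
    ∏ i, (MvPolynomial.X (a i) : MvPolynomial κ C) = MvPolynomial.monomial (count a) 1 := by
  rw [count, MvPolynomial.monomial_sum_one]
  rfl

end count

end Groth.Agent.H5.SymPow
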