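import Mathlib
import Groth.Agent.Lib.Helper5.SymPow.B

set_option autoImplicit false

namespace Groth.Agent.H5.SymPow

open TensorProduct

universe u v w

section smulLift

variable {B₀ : Type*} [CommRing B₀] {C : Type*} [CommRing C] [Algebra B₀ C]
  (hsurj : Function.Surjective (algebraMap B₀ C))
  {N : Type*} [AddCommGroup N] [Module B₀ N]

/-- The `B₀`-linear map `C → N`, `c̄ ↦ c • t`, for `t` killed by the kernel of `B₀ → C`. -/
noncomputable def smulLift (t : N) (ht : ∀ s : B₀, algebraMap B₀ C s = 0 → s • t = 0) :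
    C →ₗ[B₀] N where
  toFun c := Function.surjInv hsurj c • t
  map_add' c c' := by
    rw [← add_smul, ← sub_eq_zero, ← sub_smul]
    apply ht
    simp [Function.surjInv_eq]
  map_smul' s c := by
    rw [RingHom.id_apply, smul_smul, ← sub_eq_zero, ← sub_smul]
    apply ht
    simp [Function.surjInv_eq, Algebra.smul_def]

lemma smulLift_algebraMap (t : N) (ht : ∀ s : B₀, algebraMap B₀ C s = 0 → s • t = 0) (s : B₀) :
    smulLift hsurj t ht (algebraMap B₀ C s) = s • t := by
  change Function.surjInv hsurj (algebraMap B₀ C s) • t = s • t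
  rw [← sub_eq_zero, ← sub_smul]
  apply ht
  simp [Function.surjInv_eq]

end smulLift

section theta

variable {B₀ ι : Type u} [CommRing B₀] [Fintype ι] {C : Type v} [CommRing C] [Algebra B₀ C]
  {F : Type w} [AddCommGroup F] [Module B₀ F] [Module C F] [IsScalarTower B₀ C F]
  {κ : Type*} (b : Module.Basis κ C F)

/-- The linear form attached to an element of a free module with a chosen basis. -/
noncomputable def linForm : F →ₗ[C] MvPolynomial κ C := b.constr C MvPolynomial.X

@[simp] lemma linForm_basis (k : κ) : linForm b (b k) = MvPolynomial.X k := by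
  rw [linForm, Module.Basis.constr_basis]

/-- `Θ : Sym[B₀] ι F → C[X_κ]`, `⨂ₛ v ↦ ∏ i, ℓ(v i)`. -/
noncomputable def theta : Sym[B₀] ι F →ₗ[B₀] MvPolynomial κ C :=
  prodMap ((linForm b).restrictScalars B₀)

@[simp] lemma theta_tprod (v : ι → F) :
    theta (B₀ := B₀) b (SymmetricPower.tprod B₀ v) = ∏ i, linForm b (v i) := by
  rw [theta, prodMap_tprod]
  rfl

lemma theta_tprod_basis (a : ι → κ) :
    theta (B₀ := B₀) b (SymmetricPower.tprod B₀ (fun i => b (a i))) =
      MvPolynomial.monomial (count a) 1 := by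
  rw [theta_tprod]
  simp only [linForm_basis]
  exact prod_X_eq_monomial a

variable (hsurj : Function.Surjective (algebraMap B₀ C))

include hsurj in
lemma span_basis_eq_top : Submodule.span B₀ (Set.range b) = ⊤ := by
  rw [← Submodule.restrictScalars_span B₀ C hsurj, b.span_eq, Submodule.restrictScalars_top]

omit [Fintype ι] in
lemma smul_eq_zero_of_algebraMap_eq_zero [Nonempty ι] (s : B₀) (hs : algebraMap B₀ C s = 0)
    (z : Sym[B₀] ι F) : s • z = 0 := by
  apply smul_eq_zero_of_forall
  intro m
  rw [← algebraMap_smul C s m, hs, zero_smul]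

/-- the chosen representative pure tensor of a multi-degree. -/
noncomputable def rep (m : κ →₀ ℕ) : Sym[B₀] ι F :=
  open Classical in
  if h : ∃ a : ι → κ, count a = m then SymmetricPower.tprod B₀ (fun i => b (h.choose i)) else 0

lemma rep_count (a : ι → κ) :
    rep (B₀ := B₀) b (count a) = SymmetricPower.tprod B₀ (fun i => b (a i)) := by
  have h : ∃ a' : ι → κ, count a' = count a := ⟨a, rfl⟩
  rw [rep, dif_pos h]
  obtain ⟨e, he⟩ := exists_perm_of_count_eq a h.choose h.choose_spec.symm
  have : (fun i => b (h.choose i)) = fun i => (fun j => b (a j)) (e i) := by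
    funext i
    rw [← he i]
  rw [this]
  exact SymmetricPower.tprod_equiv e (fun j => b (a j))

/-- The retraction of `Θ`. -/
noncomputable def rho [Nonempty ι] : MvPolynomial κ C →ₗ[B₀] Sym[B₀] ι F :=
  (Finsupp.lsum B₀ (fun m : κ →₀ ℕ => smulLift hsurj (rep (B₀ := B₀) (ι := ι) b m)
    (fun s hs => smul_eq_zero_of_algebraMap_eq_zero s hs _)) :
    ((κ →₀ ℕ) →₀ C) →ₗ[B₀] Sym[B₀] ι F) ∘ₗ (AddMonoidAlgebra.coeffLinearEquiv B₀).toLinearMap

lemma rho_monomial [Nonempty ι] (m : κ →₀ ℕ) (s : B₀) :
    rho b hsurj (MvPolynomial.monomial m (algebraMap B₀ C s)) = s • rep (B₀ := B₀) (ι := ι) b m := by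
  rw [rho, LinearMap.comp_apply]
  have : (AddMonoidAlgebra.coeffLinearEquiv B₀).toLinearMap
      (MvPolynomial.monomial m (algebraMap B₀ C s) : MvPolynomial κ C) =
      Finsupp.single m (algebraMap B₀ C s) := rfl
  rw [this, Finsupp.lsum_single, smulLift_algebraMap]

theorem rho_comp_theta [Nonempty ι] : rho b hsurj ∘ₗ theta (B₀ := B₀) (ι := ι) b = LinearMap.id := by
  apply LinearMap.ext_on (span_tprod_comp (ι := ι) b (span_basis_eq_top b hsurj))
  rintro _ ⟨a, rfl⟩
  rw [LinearMap.comp_apply, theta_tprod_basis, LinearMap.id_apply]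
  have := rho_monomial (ι := ι) b hsurj (count a) 1
  rw [map_one, one_smul] at this
  rw [this, rep_count]

include hsurj in
theorem theta_injective [Nonempty ι] : Function.Injective (theta (B₀ := B₀) (ι := ι) b) :=
  Function.LeftInverse.injective (g := rho b hsurj)
    fun x => LinearMap.congr_fun (rho_comp_theta b hsurj) x

end theta

end Groth.Agent.H5.SymPow
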