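import Mathlib
import Groth.Agent.Lib.Helper5.SymPow.B

set_option autoImplicit false

namespace Groth.Agent.H5.SymPow

open TensorProduct

universe u v w

section can

variable {R ι : Type u} [CommRing R] {S : Type u} [CommRing S] [Algebra R S]
  {M : Type v} [AddCommGroup M] [Module R M] [Module S M] [IsScalarTower R S M]

/-- `Sym[S] ι M` as an `R`-module by restriction of scalars. -/
@[reducible] noncomputable def modRestrict : Module R (Sym[S] ι M) :=
  Module.compHom _ (algebraMap R S)

attribute [local instance] modRestrict

lemma modRestrict_smul (r : R) (z : Sym[S] ι M) : r • z = algebraMap R S r • z := rfl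

/-- The pure-tensor map of `Sym[S]`, as an `R`-multilinear map. -/
noncomputable def canMulti : MultilinearMap R (fun _ : ι => M) (Sym[S] ι M) where
  toFun := fun v => SymmetricPower.tprod S v
  map_update_add' := by
    intro _ v i x y
    exact (SymmetricPower.tprod S).map_update_add v i x y
  map_update_smul' := by
    intro _ v i r x
    rw [← algebraMap_smul S r x, (SymmetricPower.tprod S).map_update_smul]
    rfl

/-- The comparison map, `R`-linear for the restricted structure. -/
noncomputable def canLin : Sym[R] ι M →ₗ[R] Sym[S] ι M :=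
  lift (canMulti (R := R) (S := S) (ι := ι) (M := M))
    (fun e v => SymmetricPower.tprod_equiv e v)

/-- The comparison map `Sym[R] ι M → Sym[S] ι M` for a module over an `R`-algebra `S`
(as an additive map; it is semilinear, see `canAdd_smul`). -/
noncomputable def canAdd : Sym[R] ι M →+ Sym[S] ι M :=
  (canLin (R := R) (S := S) (ι := ι) (M := M)).toAddMonoidHom

@[simp] lemma canAdd_tprod (v : ι → M) :
    canAdd (R := R) (S := S) (SymmetricPower.tprod R v) = SymmetricPower.tprod S v :=
  lift_tprod (canMulti (R := R) (S := S) (ι := ι) (M := M))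
    (fun e v => SymmetricPower.tprod_equiv e v) v

lemma canAdd_smul (r : R) (z : Sym[R] ι M) :
    canAdd (R := R) (S := S) (r • z) = algebraMap R S r • canAdd (R := R) (S := S) z :=
  map_smul (canLin (R := R) (S := S) (ι := ι) (M := M)) r z

omit [Algebra R S] [Module R M] [IsScalarTower R S M] in
/-- For nonempty `ι`, scalar multiples of pure tensors are pure tensors. -/
lemma smul_tprod_eq_tprod [Nonempty ι] (s : S) (v : ι → M) :
    ∃ v' : ι → M, s • SymmetricPower.tprod S v = SymmetricPower.tprod S v' := by
  classical
  let i0 : ι := Classical.arbitrary ι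
  refine ⟨Function.update v i0 (s • v i0), ?_⟩
  rw [MultilinearMap.map_update_smul, Function.update_eq_self]

theorem canAdd_surjective [Nonempty ι] :
    Function.Surjective (canAdd (R := R) (S := S) (ι := ι) (M := M)) := by
  intro z
  have hz : z ∈ Submodule.span S (Set.range (SymmetricPower.tprod S (ι := ι) (M := M))) := by
    rw [SymmetricPower.span_tprod_eq_top]; trivial
  refine Submodule.span_induction ?_ ?_ ?_ ?_ hz
  · rintro _ ⟨v, rfl⟩
    exact ⟨SymmetricPower.tprod R v, canAdd_tprod v⟩
  · exact ⟨0, map_zero _⟩
  · rintro x y _ _ ⟨x', rfl⟩ ⟨y', rfl⟩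
    exact ⟨x' + y', map_add _ _ _⟩
  · rintro s x hx ⟨x', rfl⟩
    -- the additive span of pure tensors is stable under scalars
    have hx' : x' ∈ Submodule.span R (Set.range (SymmetricPower.tprod R (ι := ι) (M := M))) := by
      rw [SymmetricPower.span_tprod_eq_top]; trivial
    refine Submodule.span_induction ?_ ?_ ?_ ?_ hx'
    · rintro _ ⟨v, rfl⟩
      rw [canAdd_tprod]
      obtain ⟨v', hv'⟩ := smul_tprod_eq_tprod s v
      exact ⟨SymmetricPower.tprod R v', by rw [canAdd_tprod, hv']⟩
    · exact ⟨0, by simp⟩
    · rintro a b _ _ ⟨a', ha'⟩ ⟨b', hb'⟩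
      exact ⟨a' + b', by rw [map_add, map_add, smul_add, ha', hb']⟩
    · rintro r a _ ⟨a', ha'⟩
      exact ⟨r • a', by rw [canAdd_smul, canAdd_smul, ha', smul_comm]⟩

/-- If `S` retracts onto `R` compatibly with the action on `M`, the comparison map is injective. -/
theorem canAdd_injective (ρ : S →+* R) (hρ' : ∀ r : R, ρ (algebraMap R S r) = r)
    (hρ : ∀ (s : S) (m : M), s • m = ρ s • m) :
    Function.Injective (canAdd (R := R) (S := S) (ι := ι) (M := M)) := by
  letI : Module S (Sym[R] ι M) := Module.compHom _ ρ
  let inv : Sym[S] ι M →ₗ[S] Sym[R] ι M :=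
    lift (R := S) (N := Sym[R] ι M)
      { toFun := fun v => SymmetricPower.tprod R v
        map_update_add' := by
          intro _ v i x y
          exact (SymmetricPower.tprod R).map_update_add v i x y
        map_update_smul' := by
          intro _ v i s x
          rw [hρ s x, (SymmetricPower.tprod R).map_update_smul]
          rfl }
      (fun e v => SymmetricPower.tprod_equiv e v)
  have hinv : ∀ z : Sym[R] ι M, inv (canAdd (R := R) (S := S) z) = z := by
    intro z
    have hz : z ∈ Submodule.span R (Set.range (SymmetricPower.tprod R (ι := ι) (M := M))) := by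
      rw [SymmetricPower.span_tprod_eq_top]; trivial
    refine Submodule.span_induction ?_ ?_ ?_ ?_ hz
    · rintro _ ⟨v, rfl⟩
      rw [canAdd_tprod]
      exact lift_tprod _ _ v
    · simp
    · intro a b _ _ ha hb
      rw [map_add, map_add, ha, hb]
    · intro r a _ ha
      rw [canAdd_smul, map_smul, ha]
      change ρ (algebraMap R S r) • a = r • a
      rw [hρ']
  exact Function.LeftInverse.injective hinv

end can

end Groth.Agent.H5.SymPow
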