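import Mathlib
import Groth.Agent.Lib.Helper5.SymPow.C

set_option autoImplicit false

namespace Groth.Agent.H5.SymPow

open TensorProduct

universe u v w

section count2

variable {ι : Type*} [Fintype ι] {κ : Type*}

lemma toMultiset_count (a : ι → κ) :
    Finsupp.toMultiset (count a) = Multiset.map a Finset.univ.val := by
  classical
  rw [count, map_sum]
  simp only [Finsupp.toMultiset_single, one_smul]
  have h := Finset.sum_multiset_singleton (Finset.univ : Finset ι)
  have h2 := congrArg (Multiset.map a) h
  rw [← h2, ← Multiset.mapAddMonoidHom_apply, map_sum]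
  simp

/-- Every multi-degree of total degree `card ι` is the multiset of values of some `a : ι → κ`. -/
theorem exists_count_eq (d : κ →₀ ℕ) (hd : d.degree = Fintype.card ι) :
    ∃ a : ι → κ, count a = d := by
  classical
  obtain ⟨l, hl⟩ := Quotient.exists_rep (Finsupp.toMultiset d)
  have hlen : l.length = Fintype.card ι := by
    have : Multiset.card (Finsupp.toMultiset d) = l.length := by
      rw [← hl]; rfl
    rw [← this, Finsupp.card_toMultiset, ← hd]
    rfl
  let e : ι ≃ Fin l.length := (Fintype.equivFin ι).trans (finCongr hlen.symm)
  refine ⟨fun i => l.get (e i), ?_⟩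
  rw [← Finsupp.toMultiset_toFinsupp (count fun i => l.get (e i)), ← Finsupp.toMultiset_toFinsupp d]
  congr 1
  rw [toMultiset_count, ← hl]
  have h1 : Multiset.map (fun i => l.get (e i)) Finset.univ.val =
      Multiset.map l.get (Multiset.map e Finset.univ.val) := by
    rw [Multiset.map_map]; rfl
  have h2 : Multiset.map e (Finset.univ : Finset ι).val = (Finset.univ : Finset (Fin l.length)).val := by
    rw [← Finset.univ_map_equiv_to_embedding e]
    rfl
  rw [h1, h2, Fin.univ_val_map, List.ofFn_get]
  rfl

lemma prod_comp_eq_prod_pow {R : Type*} [CommMonoid R] (a : ι → κ) (f : κ → R) :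
    ∏ i, f (a i) = (count a).prod fun k n => f k ^ n := by
  classical
  rw [count, ← Finsupp.prod_finsetSum_index (fun k => pow_zero _) (fun k m n => pow_add _ _ _)]
  refine Finset.prod_congr rfl fun i _ => ?_
  rw [Finsupp.prod_single_index (by exact pow_zero _)]
  exact (pow_one _).symm

end count2

end Groth.Agent.H5.SymPow
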