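import Mathlib
import Groth.Agent.Lib.Helper5.SymPow.D

set_option autoImplicit false

namespace Groth.Agent.H5.SymPow

open TensorProduct

universe u v w

section repFam

variable {R ι : Type u} [CommRing R] [Fintype ι] {M : Type v} [AddCommGroup M] [Module R M]
  {κ : Type*} (v : κ → M)

/-- The pure tensor on the family `v` attached to a multi-degree (zero if the degree is wrong). -/
noncomputable def repFam (d : κ →₀ ℕ) : Sym[R] ι M :=
  open Classical in
  if h : ∃ a : ι → κ, count a = d then SymmetricPower.tprod R (fun i => v (h.choose i)) else 0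

lemma repFam_count (a : ι → κ) :
    repFam (R := R) v (count a) = SymmetricPower.tprod R (fun i => v (a i)) := by
  have h : ∃ a' : ι → κ, count a' = count a := ⟨a, rfl⟩
  rw [repFam, dif_pos h]
  obtain ⟨e, he⟩ := exists_perm_of_count_eq a h.choose h.choose_spec.symm
  have : (fun i => v (h.choose i)) = fun i => (fun j => v (a j)) (e i) := by
    funext i
    rw [← he i]
  rw [this]
  exact SymmetricPower.tprod_equiv e (fun j => v (a j))

lemma repFam_of_degree (d : κ →₀ ℕ) (hd : d.degree = Fintype.card ι) :
    ∃ a : ι → κ, count a = d ∧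
      repFam (R := R) (ι := ι) v d = SymmetricPower.tprod R (fun i => v (a i)) := by
  obtain ⟨a, ha⟩ := exists_count_eq (ι := ι) d hd
  exact ⟨a, ha, by rw [← ha, repFam_count]⟩

end repFam

end Groth.Agent.H5.SymPow
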